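import Cfsg.Agent.Lib.CentralFour.AbelianCase
import Cfsg.Agent.Lib.CentralFour.DihedralCase
import Cfsg.Agent.Lib.GWApps.RankTwoSimple
import Cfsg.Agent.S0483
import Cfsg.Agent.S1238
import Cfsg.Agent.S2116
import Mathlib.FieldTheory.Finite.GaloisField
import Mathlib.GroupTheory.SpecificGroups.Alternating

/-!
# Quasisimple groups with non-abelian Sylow 2-subgroups with centre of index four
-/

set_option autoImplicit false
set_option linter.unusedSectionVars false
set_option linter.style.haveILetI false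

open Cfsg
open scoped commutatorElement

namespace CfsgLib.CentralFour

section General

variable {G : Type*} [Group G] [Finite G]

theorem isPerfect_of_simple [IsSimpleGroup G] (hG : ¬ IsMulCommutative G) : Group.IsPerfect G := by
  refine ⟨?_⟩
  rcases (inferInstance : (commutator G).Normal).eq_bot_or_eq_top with h | h
  · exact absurd ((commutator_eq_bot_iff_center_eq_top G).1 h) fun hc => hG
      ⟨⟨fun a b => (Subgroup.mem_center_iff.1 (hc ▸ Subgroup.mem_top b) a)⟩⟩
  · exact h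

/-- In a perfect group the central elements of a Sylow subgroup lie in its derived subgroup. -/
theorem mem_commutator_of_center (hperf : commutator G = ⊤) (P : Sylow 2 G) {z : G}
    (hz : z ∈ Subgroup.center G) (hzP : z ∈ (P : Subgroup G)) :
    (⟨z, hzP⟩ : (P : Subgroup G)) ∈ commutator (P : Subgroup G) := by
  haveI : Fact (Nat.Prime 2) := ⟨Nat.prime_two⟩
  set ϕ : (P : Subgroup G) →* Abelianization (P : Subgroup G) := Abelianization.of
  have h1 : MonoidHom.transfer ϕ z = 1 :=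
    MonoidHom.mem_ker.1 (Abelianization.commutator_subset_ker _ (hperf ▸ Subgroup.mem_top z))
  rw [MonoidHom.transfer_eq_pow ϕ z (fun k g₀ _ => by
    rw [Subgroup.mem_center_iff.1 (pow_mem hz k) g₀⁻¹, mul_assoc, inv_mul_cancel, mul_one])] at h1
  have h2 : ϕ ⟨z, hzP⟩ ^ (P : Subgroup G).index = 1 := by rw [← map_pow]; exact h1
  obtain ⟨k, hk⟩ := exists_twoPow_of_mem P.2 hzP
  have h3 : ϕ ⟨z, hzP⟩ ^ 2 ^ k = 1 := by
    rw [← map_pow, ← hk, show (⟨z, hzP⟩ : (P : Subgroup G)) ^ orderOf z = 1 from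
      Subtype.ext (pow_orderOf_eq_one z), map_one]
  have hodd : Odd (P : Subgroup G).index := Nat.not_even_iff_odd.1 fun he =>
    P.not_dvd_index (even_iff_two_dvd.1 he)
  rw [← Abelianization.ker_of, MonoidHom.mem_ker]
  exact eq_one_of_pow_odd hodd h2 h3

/-- A simple group with abelian Sylow 2-subgroups of rank at most two: they are four groups. -/
theorem card_four_of_rank_two [IsSimpleGroup G] (hG : ¬ IsMulCommutative G) (P : Sylow 2 G)
    (hab : IsMulCommutative (P : Subgroup G)) (h2 : Cfsg.PRankLE 2 2 G) :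
    Nat.card (P : Subgroup G) = 4 ∧ Nonempty ((P : Subgroup G) ≃* DihedralGroup 2) := by
  haveI : Fact (Nat.Prime 2) := ⟨Nat.prime_two⟩
  haveI : Fintype (GaloisField 2 4) := Fintype.ofFinite _
  have hF : Fintype.card (GaloisField 2 4) = 16 := by
    rw [← Nat.card_eq_fintype_card, GaloisField.card 2 4 (by norm_num)]
    rfl
  obtain ⟨Q⟩ : Nonempty (Sylow 2 (Cfsg.PSU 3 (GaloisField 2 4) 4)) := inferInstance
  have hcomm : ∀ a b : (P : Subgroup G), a * b = b * a := hab.is_comm.comm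
  rcases Cfsg.Agent.S1238.result h2 (CfsgLib.GWApps.RankTwoSimple.not_pRankLE_one hG)
    (CfsgLib.GWApps.RankTwoSimple.index_ne_two hG)
    (CfsgLib.GWApps.RankTwoSimple.not_isIsolatedInvolution hG) P hF Q
    with ⟨m, hm, ⟨e⟩⟩ | ⟨n, hn, -, a, b, ha, -, hb⟩ | ⟨n, hn, -, a, b, c, ha, -, hint, -, hc⟩ |
      ⟨n, hn, ⟨e⟩⟩ | ⟨⟨e⟩⟩
  · have hm2 : m = 2 := by
      have h := congrArg e (hcomm (e.symm (DihedralGroup.r 1)) (e.symm (DihedralGroup.sr 0)))
      simp only [map_mul, MulEquiv.apply_symm_apply, DihedralGroup.r_mul_sr,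
        DihedralGroup.sr_mul_r] at h
      have h' : ((2 : ℕ) : ZMod m) = 0 := by
        have h1 := DihedralGroup.sr.inj h
        have h2' : (0 : ZMod m) + 1 - (0 - 1) = 0 := by rw [h1, sub_self]
        rw [← h2']
        push_cast
        ring
      rw [ZMod.natCast_eq_zero_iff] at h'
      exact le_antisymm (Nat.le_of_dvd (by norm_num) h') hm
    subst hm2
    exact ⟨by rw [Nat.card_congr e.toEquiv, DihedralGroup.nat_card], ⟨e⟩⟩
  · exfalso
    rw [hcomm b a, mul_inv_cancel_right] at hb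
    have h8 : 2 ^ 3 ≤ 2 ^ n := Nat.pow_le_pow_right (by norm_num) hn
    have hs : 2 ^ n = 2 * 2 ^ (n - 1) := by rw [← pow_succ', Nat.sub_add_cancel (by omega)]
    have h1 : a ^ (2 ^ (n - 1) - 2) = 1 := by
      have h := hb
      rw [show 2 ^ (n - 1) - 1 = (2 ^ (n - 1) - 2) + 1 by omega, pow_succ] at h
      exact right_eq_mul.1 h
    have := Nat.le_of_dvd (by omega) (ha ▸ orderOf_dvd_of_pow_eq_one h1)
    omega
  · exfalso
    rw [hcomm c a, mul_inv_cancel_right] at hc
    subst hc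
    rw [inf_idem, Subgroup.zpowers_eq_bot] at hint
    rw [hint, orderOf_one] at ha
    have : 1 < 2 ^ n := Nat.one_lt_two_pow (by omega)
    omega
  · exact (CfsgLib.GWApps.RankTwoSimple.no_homocyclic hG P n hn e).elim
  · exfalso
    obtain ⟨-, -, a, b, hne⟩ := Cfsg.Agent.S1237.exists_tri_sylow hF Q
    refine hne ?_
    have h := congrArg e (hcomm (e.symm a) (e.symm b))
    simpa [map_mul] using h

/-- The quotient of a quasisimple group with the centre meeting a Sylow 2-subgroup in its derived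
subgroup of order two. -/
theorem quotient_four {Z : Subgroup G} [Z.Normal] (hZc : Z ≤ Subgroup.center G)
    [IsSimpleGroup (G ⧸ Z)] (hGb : ¬ IsMulCommutative (G ⧸ Z)) (hG : Good G) (P : Sylow 2 G)
    (hp : cgen hG P ∈ Z) (hcyc : ∀ z ∈ (P : Subgroup G), z ∈ Z → z = 1 ∨ z = cgen hG P) :
    Nat.card (P : Subgroup G) = 8 ∧ ∃ S : Sylow 2 (G ⧸ Z), Nat.card (S : Subgroup (G ⧸ Z)) = 4 ∧
      Nonempty ((S : Subgroup (G ⧸ Z)) ≃* DihedralGroup 2) := by
  classical
  haveI : Fact (Nat.Prime 2) := ⟨Nat.prime_two⟩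
  haveI := Fintype.ofFinite (G ⧸ Z)
  have hP := core_cgen hG P
  set f : G →* G ⧸ Z := QuotientGroup.mk' Z with hf
  have hfs : Function.Surjective f := QuotientGroup.mk'_surjective Z
  set S : Sylow 2 (G ⧸ Z) := P.mapSurjective hfs with hS
  have hmemS : ∀ w ∈ (P : Subgroup G), f w ∈ (S : Subgroup (G ⧸ Z)) := fun w hw => ⟨w, hw, rfl⟩
  let φ : (P : Subgroup G) →* (S : Subgroup (G ⧸ Z)) :=
    MonoidHom.mk' (fun w => ⟨f w, hmemS w w.2⟩) fun a b => Subtype.ext (map_mul f _ _)
  have hφs : Function.Surjective φ := by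
    rintro ⟨_, w, hw, rfl⟩
    exact ⟨⟨w, hw⟩, rfl⟩
  have hab : IsMulCommutative (S : Subgroup (G ⧸ Z)) := by
    refine ⟨⟨fun a b => ?_⟩⟩
    obtain ⟨a, rfl⟩ := hφs a
    obtain ⟨b, rfl⟩ := hφs b
    refine Subtype.ext ?_
    show f a * f b = f b * f a
    rcases hP.comm a a.2 b b.2 with e | e <;> rw [← map_mul, e, map_mul]
    rw [show f (cgen hG P) = 1 from (QuotientGroup.eq_one_iff _).2 hp, one_mul, map_mul]
  have hker : φ.ker ≤ Subgroup.center (P : Subgroup G) := by
    intro w hw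
    have hwZ : (w : G) ∈ Z := (QuotientGroup.eq_one_iff _).1 (congrArg Subtype.val hw)
    exact Subgroup.mem_center_iff.2 fun r => Subtype.ext (Subgroup.mem_center_iff.1 (hZc hwZ) r)
  set K : Subgroup (S : Subgroup (G ⧸ Z)) := (Subgroup.center (P : Subgroup G)).map φ with hK
  have hKindex : K.index = 4 := by
    rw [hK, Subgroup.index_map_eq _ hφs hker]
    have h1 := Subgroup.card_mul_index (Subgroup.center (P : Subgroup G))
    have h2 : Nat.card (Subgroup.center (P : Subgroup G)) = Nat.card (zc (P : Subgroup G)) := by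
      rw [← center_map, Subgroup.card_map_of_injective (P : Subgroup G).subtype_injective]
    rw [hP.card, h2, mul_comm 4] at h1
    exact Nat.eq_of_mul_eq_mul_left Nat.card_pos h1
  have hKmem : ∀ w : (P : Subgroup G), φ w ∈ K ↔ (w : G) ∈ zc (P : Subgroup G) := by
    intro w
    rw [← center_map]
    constructor
    · rintro ⟨v, hv, e⟩
      have : v⁻¹ * w ∈ Subgroup.center (P : Subgroup G) :=
        hker (by rw [MonoidHom.mem_ker, map_mul, map_inv, e, inv_mul_cancel])
      exact ⟨w, by simpa using mul_mem hv this, rfl⟩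
    · rintro ⟨v, hv, e⟩
      exact Subgroup.mem_map_of_mem φ ((Subtype.ext e : v = w) ▸ hv)
  have hlift : ∀ m ∈ Subgroup.normalizer ((S : Subgroup (G ⧸ Z)) : Set (G ⧸ Z)), ∀ w : G,
      w ∈ (P : Subgroup G) → ∃ n ∈ Subgroup.normalizer ((P : Subgroup G) : Set G), f n = m := by
    intro m hm _ _
    obtain ⟨n, rfl⟩ := hfs m
    refine ⟨n, ?_, rfl⟩
    have key : ∀ n, f n ∈ Subgroup.normalizer ((S : Subgroup (G ⧸ Z)) : Set (G ⧸ Z)) →
        ∀ w ∈ (P : Subgroup G), n * w * n⁻¹ ∈ (P : Subgroup G) := by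
      intro n hn w hw
      obtain ⟨w', hw', e⟩ := (Subgroup.mem_normalizer_iff.1 hn _).1 (hmemS w hw)
      have he : f (n * w * n⁻¹) = f w' := by rw [map_mul, map_mul, map_inv]; exact e.symm
      set z := w'⁻¹ * (n * w * n⁻¹) with hz
      have hzZ : z ∈ Z := QuotientGroup.eq.1 he.symm
      obtain ⟨k, hk⟩ := exists_twoPow_of_mem P.2 hw
      obtain ⟨j, hj⟩ := exists_twoPow_of_mem P.2 hw'
      have hzc : Commute w'⁻¹ (n * w * n⁻¹) := by
        have h := Subgroup.mem_center_iff.1 (hZc hzZ) w'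
        rw [hz] at h
        have h' : n * w * n⁻¹ = w'⁻¹ * (n * w * n⁻¹) * w' := by rw [← h]; group
        calc w'⁻¹ * (n * w * n⁻¹) = w'⁻¹ * (n * w * n⁻¹) * w' * w'⁻¹ := by group
          _ = n * w * n⁻¹ * w'⁻¹ := by rw [← h']
      obtain ⟨i, -, hi⟩ := (Nat.dvd_prime_pow Nat.prime_two).1 (show orderOf z ∣ 2 ^ max j k by
        refine (hzc.orderOf_mul_dvd_lcm).trans (Nat.lcm_dvd ?_ ?_)
        · rw [orderOf_inv, hj]; exact Nat.pow_dvd_pow 2 (le_max_left j k)
        · rw [← MulAut.conj_apply, MulEquiv.orderOf_eq, hk]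
          exact Nat.pow_dvd_pow 2 (le_max_right j k))
      -- a central 2-element lies in `P`
      obtain ⟨c, hc⟩ := exists_conj_mem_sylow P (isPGroup_zpowers' ⟨i, hi⟩)
      have hzP := hc z (Subgroup.mem_zpowers z)
      rw [Subgroup.mem_center_iff.1 (hZc hzZ) c, mul_inv_cancel_right] at hzP
      have := mul_mem hw' hzP
      rwa [hz, mul_inv_cancel_left] at this
    refine Subgroup.mem_normalizer_iff.2 fun w => ⟨key n hm w, fun h => ?_⟩
    have := key n⁻¹ (by rw [map_inv]; exact inv_mem hm) _ h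
    simpa [mul_assoc] using this
  set Φ := Subgroup.normalizerMonoidHom (S : Subgroup (G ⧸ Z)) with hΦ
  have hmove : ∀ (m : Subgroup.normalizer ((S : Subgroup (G ⧸ Z)) : Set (G ⧸ Z)))
      (w : (P : Subgroup G)), (w : G) ∈ zc (P : Subgroup G) → Φ m (φ w) ∈ K := by
    intro m w hw
    obtain ⟨n, hn, e⟩ := hlift m m.2 w w.2
    have hnw := (zc_conj_of_normalizer hG P hn).2 hw
    have := (hKmem ⟨_, (mem_zc.1 hnw).1⟩).2 hnw
    convert this using 1
    refine Subtype.ext ?_
    show (m : G ⧸ Z) * f w * (m : G ⧸ Z)⁻¹ = f (n * w * n⁻¹)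
    rw [← e, map_mul, map_mul, map_inv]
  have hKinv : ∀ m (hm : m ∈ Subgroup.normalizer ((S : Subgroup (G ⧸ Z)) : Set (G ⧸ Z))),
      K.map (Φ ⟨m, hm⟩).toMonoidHom = K := by
    intro m hm
    refine le_antisymm ?_ ?_
    · rintro _ ⟨_, ⟨w, hw, rfl⟩, rfl⟩
      exact hmove ⟨m, hm⟩ w (by rw [← center_map]; exact ⟨w, hw, rfl⟩)
    · rintro _ ⟨w, hw, rfl⟩
      refine ⟨Φ ⟨m, hm⟩⁻¹ (φ w), hmove _ w (by rw [← center_map]; exact ⟨w, hw, rfl⟩), ?_⟩
      show Φ ⟨m, hm⟩ ((Φ ⟨m, hm⟩⁻¹) _) = _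
      rw [← MulAut.mul_apply, ← map_mul, mul_inv_cancel, map_one, MulAut.one_apply]
  have hact : ∃ n : Subgroup.normalizer ((S : Subgroup (G ⧸ Z)) : Set (G ⧸ Z)),
      ∃ w : (S : Subgroup (G ⧸ Z)), Φ n w * w⁻¹ ∉ K := by
    by_contra h
    push Not at h
    have hperf := (isPerfect_of_simple hGb).commutator_eq_top
    have hfoc := Subgroup.commutator_inf_eq_focalSubgroup S
    rw [hperf, top_inf_eq] at hfoc
    have hle : (S : Subgroup (G ⧸ Z)) ≤ K.map (S : Subgroup (G ⧸ Z)).subtype := by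
      refine hfoc.le.trans ?_
      rw [Subgroup.focalSubgroup_def, Subgroup.closure_le]
      rintro g ⟨hg, a, ha, u, rfl⟩
      have hb : u * a⁻¹ * u⁻¹ ∈ (S : Subgroup (G ⧸ Z)) := by
        have := mul_mem (inv_mem ha) hg
        rwa [commutatorElement_def, show a⁻¹ * (a * u * a⁻¹ * u⁻¹) = u * a⁻¹ * u⁻¹ by group] at this
      obtain ⟨n, hn, e⟩ := CfsgLib.Transfer.abelian_sylow_control S hab a⁻¹ (inv_mem ha) u hb
      refine ⟨⟨_, hg⟩, ?_, rfl⟩
      have h' := h ⟨n, hn⟩ ⟨a⁻¹, inv_mem ha⟩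
      have heq : (⟨⁅a, u⁆, hg⟩ : (S : Subgroup (G ⧸ Z)))
          = Φ ⟨n, hn⟩ ⟨a⁻¹, inv_mem ha⟩ * (⟨a⁻¹, inv_mem ha⟩ : (S : Subgroup (G ⧸ Z)))⁻¹ := by
        rw [hab.is_comm.comm]
        refine Subtype.ext ?_
        show ⁅a, u⁆ = a⁻¹⁻¹ * (n * a⁻¹ * n⁻¹)
        rw [e, commutatorElement_def]
        group
      rw [heq]
      exact h'
    have htop : K = ⊤ := eq_top_iff.2 fun w _ => by
      obtain ⟨v, hv, e⟩ := hle w.2
      rwa [← (S : Subgroup (G ⧸ Z)).subtype_injective e]
    rw [htop, Subgroup.index_top] at hKindex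
    omega
  have hΩ : Nat.card {w : (S : Subgroup (G ⧸ Z)) // w * w = 1} < 8 := by
    by_contra h
    exact false_of_abelian S hab K hKindex hKinv hact (not_lt.1 h)
  have h2 : Cfsg.PRankLE 2 2 (G ⧸ Z) := by
    intro A hA hA2
    have hA2' : IsPGroup 2 A := fun a => ⟨1, Subtype.ext (by simpa using hA2 a a.2)⟩
    obtain ⟨k, hk⟩ := IsPGroup.iff_card.1 hA2'
    obtain ⟨c, hc⟩ := exists_conj_mem_sylow S hA2'
    let ι : A → {w : (S : Subgroup (G ⧸ Z)) // w * w = 1} := fun a =>
      ⟨⟨c * a * c⁻¹, hc a a.2⟩, Subtype.ext (by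
        show c * a * c⁻¹ * (c * a * c⁻¹) = 1
        rw [show c * (a : G ⧸ Z) * c⁻¹ * (c * a * c⁻¹) = c * ((a : G ⧸ Z) * a) * c⁻¹ by group,
          ← pow_two, hA2 a a.2, mul_one, mul_inv_cancel])⟩
    have hι : Function.Injective ι := fun a b e => Subtype.ext (by
      simpa [ι] using congrArg (fun w => ((w.1 : (S : Subgroup (G ⧸ Z))) : G ⧸ Z)) e)
    have := Nat.card_le_card_of_injective ι hι
    rw [hk] at this ⊢
    have hk3 : 2 ^ k < 2 ^ 3 := lt_of_le_of_lt this hΩ
    exact Nat.pow_le_pow_right (by norm_num) (Nat.lt_succ_iff.1 ((Nat.pow_lt_pow_iff_right (by norm_num)).1 hk3))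
  obtain ⟨h4, hD⟩ := card_four_of_rank_two hGb S hab h2
  refine ⟨?_, S, h4, hD⟩
  have hkerc : Nat.card φ.ker = 2 := by
    let pP : (P : Subgroup G) := ⟨cgen hG P, hP.mem_R⟩
    have : φ.ker = Subgroup.zpowers pP := by
      refine le_antisymm (fun w hw => ?_) (Subgroup.zpowers_le.2 ?_)
      · rcases hcyc w w.2 ((QuotientGroup.eq_one_iff _).1 (congrArg Subtype.val hw)) with e | e
        · rw [show w = 1 from Subtype.ext e]; exact one_mem _
        · rw [show w = pP from Subtype.ext e]; exact Subgroup.mem_zpowers _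
      · exact MonoidHom.mem_ker.2 (Subtype.ext ((QuotientGroup.eq_one_iff _).2 hp))
    rw [this, Nat.card_zpowers, orderOf_eq_prime (p := 2) (Subtype.ext (by simp [pP, pow_two, hP.sq]))
      fun e => hP.ne (congrArg Subtype.val e)]
  rw [← φ.ker.card_mul_index, Subgroup.index_ker, MonoidHom.range_eq_top.2 hφs, Subgroup.card_top,
    h4, hkerc]

/-- A stem extension of `A₇` with a centre of odd order has a centre of order one or three. -/
theorem card_center_of_alt_seven (hperf : commutator G = ⊤)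
    (e : G ⧸ Subgroup.center G ≃* alternatingGroup (Fin 7))
    (hodd : Odd (Nat.card (Subgroup.center G))) :
    Nat.card (Subgroup.center G) = 1 ∨ Nat.card (Subgroup.center G) = 3 := by
  classical
  obtain ⟨n, ⟨en⟩⟩ := Finite.exists_equiv_fin G
  let emb : G →* Equiv.Perm (Fin n) :=
    en.permCongrHom.toMonoidHom.comp (MulAction.toPermHom G G)
  have hemb : Function.Injective emb := fun a b h =>
    MulAction.toPerm_injective (α := G) (β := G) (en.permCongrHom.injective h)
  let ei : emb.range ≃* G := (MonoidHom.ofInjective hemb).symm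
  let σ : emb.range →* alternatingGroup (Fin 7) :=
    (e.toMonoidHom.comp (QuotientGroup.mk' (Subgroup.center G))).comp ei.toMonoidHom
  have hker : ∀ g : emb.range, g ∈ σ.ker ↔ ei g ∈ Subgroup.center G := fun g => by
    simp only [σ, MonoidHom.mem_ker, MonoidHom.comp_apply, MulEquiv.coe_toMonoidHom,
      map_eq_one_iff e e.injective, QuotientGroup.mk'_apply, QuotientGroup.eq_one_iff]
  have hσ : Cfsg.IsStemExtension σ := by
    refine ⟨(e.surjective.comp (QuotientGroup.mk'_surjective _)).comp ei.surjective, ?_, ?_⟩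
    · intro g hg
      refine Subgroup.mem_center_iff.2 fun h => ei.injective ?_
      rw [map_mul, map_mul]
      exact Subgroup.mem_center_iff.1 ((hker g).1 hg) _
    · intro g _
      have hg : ei g ∈ (commutator G) := hperf ▸ Subgroup.mem_top _
      have hc : (commutator G).map ei.symm.toMonoidHom ≤ commutator emb.range := by
        rw [commutator_def, commutator_def, Subgroup.map_commutator]
        exact Subgroup.commutator_mono le_top le_top
      have := hc (Subgroup.mem_map_of_mem _ hg)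
      simpa using this
  obtain ⟨π, hπ⟩ := (Cfsg.Agent.S2116.result 7 (Or.inr rfl)).2 emb.range σ hσ
  have hdvd := Subgroup.card_dvd_of_surjective π hπ
  rw [Nat.card_congr Multiplicative.toAdd, Nat.card_zmod,
    Nat.card_congr (Equiv.subtypeEquiv ei.toEquiv (fun g => hker g) :
      σ.ker ≃ Subgroup.center G)] at hdvd
  obtain ⟨j, hj⟩ := hodd
  have := Nat.le_of_dvd (by norm_num) hdvd
  interval_cases h : Nat.card (Subgroup.center G) <;> omega

theorem eight_dvd_card_alt_seven : 8 ∣ Nat.card (alternatingGroup (Fin 7)) := by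
  rw [nat_card_alternatingGroup, Nat.card_eq_fintype_card, Fintype.card_fin]
  decide

/-- The theorem. -/
theorem main (hq : Cfsg.IsQuasisimple G) (P : Sylow 2 G)
    (hna : ¬ IsMulCommutative (P : Subgroup G))
    (hZ : (Subgroup.center (P : Subgroup G)).index = 4) :
    Nat.card (P : Subgroup G) = 8 ∧
      (Nonempty (G ≃* alternatingGroup (Fin 7)) ∨
       (Nat.card (Subgroup.center G) = 3 ∧
          Nonempty (G ⧸ Subgroup.center G ≃* alternatingGroup (Fin 7))) ∨
       ∃ (F : Type) (_ : Field F) (_ : Fintype F), Odd (Fintype.card F) ∧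
          Nonempty (G ⧸ Subgroup.center G ≃*
            Matrix.ProjectiveSpecialLinearGroup (Fin 2) F)) := by
  classical
  haveI : Fact (Nat.Prime 2) := ⟨Nat.prime_two⟩
  obtain ⟨hperf, hsimple⟩ := hq
  have hperf' : commutator G = ⊤ := hperf.commutator_eq_top
  haveI := hsimple
  set Z := Subgroup.center G with hZdef
  have hGb : ¬ IsMulCommutative (G ⧸ Z) := by
    intro h
    have hle : commutator G ≤ Z := by
      rw [commutator_def, Subgroup.commutator_le]
      intro a _ b _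
      rw [← QuotientGroup.eq_one_iff, commutatorElement_def, QuotientGroup.mk_mul,
        QuotientGroup.mk_mul, QuotientGroup.mk_mul, QuotientGroup.mk_inv, QuotientGroup.mk_inv,
        h.is_comm.comm (a : G ⧸ Z) b, mul_inv_cancel_right, mul_inv_cancel]
    rw [hperf'] at hle
    exact hna ⟨⟨fun a b => Subtype.ext
      (Subgroup.mem_center_iff.1 (hle (Subgroup.mem_top (b : G))) a)⟩⟩
  haveI := Fintype.ofFinite (G ⧸ Z)
  haveI : Group.IsPerfect (G ⧸ Z) := isPerfect_of_simple hGb
  have hO : Cfsg.oddCore (G ⧸ Z) = ⊥ := CfsgLib.GWApps.RankTwoSimple.oddCore_eq_bot hGb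
  let eO : (G ⧸ Z) ⧸ Cfsg.oddCore (G ⧸ Z) ≃* G ⧸ Z :=
    haveI : (Cfsg.oddCore (G ⧸ Z)).Normal := by rw [hO]; infer_instance
    (QuotientGroup.quotientMulEquivOfEq hO).trans QuotientGroup.quotientBot
  have hG := good_of_sylow P hna hZ
  have hP := core_cgen hG P
  have hcyc : ∀ z ∈ (P : Subgroup G), z ∈ Z → z = 1 ∨ z = cgen hG P := by
    intro z hzP hzZ
    let pP : (P : Subgroup G) := ⟨cgen hG P, hP.mem_R⟩
    have hle : commutator (P : Subgroup G) ≤ Subgroup.zpowers pP := by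
      rw [commutator_def, Subgroup.commutator_le]
      intro a _ b _
      rcases hP.comm a a.2 b b.2 with e | e
      · rw [show ⁅a, b⁆ = 1 from commutatorElement_eq_one_iff_mul_comm.2 (Subtype.ext e)]
        exact one_mem _
      · rw [show ⁅a, b⁆ = pP from Subtype.ext (by
          simp only [commutatorElement_def, Subgroup.coe_mul, Subgroup.coe_inv, pP]
          rw [e]; group)]
        exact Subgroup.mem_zpowers _
    obtain ⟨i, hi⟩ := Subgroup.mem_zpowers_iff.1 (hle (mem_commutator_of_center hperf' P hzZ hzP))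
    have hi' : cgen hG P ^ i = z := by
      simpa [pP] using congrArg Subtype.val hi
    rcases Int.even_or_odd i with ⟨j, rfl⟩ | ⟨j, rfl⟩
    · left
      rw [← hi', ← two_mul, zpow_mul, zpow_two, hP.sq, one_zpow]
    · right
      rw [← hi', zpow_add, zpow_mul, zpow_two, hP.sq, one_zpow, one_mul, zpow_one]
  by_cases hp : cgen hG P ∈ Z
  · obtain ⟨h8, S, h4, hD⟩ := quotient_four le_rfl hGb hG P hp hcyc
    refine ⟨h8, Or.inr (Or.inr ?_)⟩
    rcases Cfsg.Agent.S0483.result S 2 le_rfl hD with ⟨F, i1, i2, hodd, -, ⟨e⟩⟩ | ⟨⟨e⟩⟩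
    · exact ⟨F, i1, i2, hodd, ⟨eO.symm.trans e⟩⟩
    · exfalso
      obtain ⟨Q, hQ⟩ := Sylow.exists_subgroup_card_pow_prime (G := G ⧸ Z) 2 (n := 3) (by
        rw [Nat.card_congr (eO.symm.trans e).toEquiv]; exact eight_dvd_card_alt_seven)
      obtain ⟨T, hT⟩ := (IsPGroup.of_card hQ).exists_le_sylow
      have := Subgroup.card_le_of_le hT
      rw [hQ, Nat.card_congr (Sylow.equiv T S).toEquiv, h4] at this
      omega
  · have htriv : ∀ z ∈ (P : Subgroup G), z ∈ Z → z = 1 := fun z hzP hzZ =>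
      (hcyc z hzP hzZ).resolve_right fun e => hp (e ▸ hzZ)
    set f : G →* G ⧸ Z := QuotientGroup.mk' Z with hf
    set S : Sylow 2 (G ⧸ Z) := P.mapSurjective (QuotientGroup.mk'_surjective Z) with hS
    let φ : (P : Subgroup G) →* (S : Subgroup (G ⧸ Z)) :=
      MonoidHom.mk' (fun w => ⟨f w, ⟨w, w.2, rfl⟩⟩) fun a b => Subtype.ext (map_mul f _ _)
    have hφ : Function.Bijective φ := by
      refine ⟨(injective_iff_map_eq_one φ).2 fun w hw => Subtype.ext
        (htriv w w.2 ((QuotientGroup.eq_one_iff _).1 (congrArg Subtype.val hw))), ?_⟩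
      rintro ⟨_, w, hw, rfl⟩
      exact ⟨⟨w, hw⟩, rfl⟩
    let eP : (P : Subgroup G) ≃* (S : Subgroup (G ⧸ Z)) := MulEquiv.ofBijective φ hφ
    have hGS : Good (G ⧸ Z) := by
      refine good_of_sylow S (fun h => hna ⟨⟨fun a b => eP.injective (by
        rw [map_mul, map_mul]; exact h.is_comm.comm _ _)⟩⟩) ?_
      have h1 := Subgroup.card_mul_index (Subgroup.center (P : Subgroup G))
      have h2 := Subgroup.card_mul_index (Subgroup.center (S : Subgroup (G ⧸ Z)))
      rw [← Nat.card_congr (Subgroup.centerCongr eP).toEquiv, ← Nat.card_congr eP.toEquiv, ← h1,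
        hZ] at h2
      exact Nat.eq_of_mul_eq_mul_left Nat.card_pos h2
    obtain ⟨h8, hD⟩ := dihedral_of_simple hGS S
    refine ⟨(Nat.card_congr eP.toEquiv).trans h8, ?_⟩
    rcases Cfsg.Agent.S0483.result S 4 (by norm_num) hD with ⟨F, i1, i2, hodd, -, ⟨e⟩⟩ | ⟨⟨e⟩⟩
    · exact Or.inr (Or.inr ⟨F, i1, i2, hodd, ⟨eO.symm.trans e⟩⟩)
    have hodd : Odd (Nat.card Z) := by
      rw [Nat.odd_iff]
      by_contra hc
      obtain ⟨z, hz⟩ := exists_prime_orderOf_dvd_card' (G := Z) 2 (Nat.dvd_of_mod_eq_zero (by omega))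
      obtain ⟨c, hc'⟩ := exists_conj_mem_sylow P (Q := Subgroup.zpowers (z : G))
        (isPGroup_zpowers' ⟨1, by rw [orderOf_submonoid, hz, pow_one]⟩)
      have hzP := hc' _ (Subgroup.mem_zpowers (z : G))
      rw [Subgroup.mem_center_iff.1 z.2 c, mul_inv_cancel_right] at hzP
      rw [show z = 1 from Subtype.ext (htriv _ hzP z.2), orderOf_one] at hz
      omega
    rcases card_center_of_alt_seven hperf' (eO.symm.trans e) hodd with h1 | h3
    · refine Or.inl ⟨(MulEquiv.ofBijective f ⟨?_, QuotientGroup.mk'_surjective Z⟩).trans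
        (eO.symm.trans e)⟩
      rw [injective_iff_map_eq_one]
      intro a ha
      have := (QuotientGroup.eq_one_iff a).1 ha
      rwa [Subgroup.eq_bot_of_card_eq Z h1, Subgroup.mem_bot] at this
    · exact Or.inr (Or.inl ⟨h3, ⟨eO.symm.trans e⟩⟩)

end General

end CfsgLib.CentralFour
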